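import Cfsg.Agent.Lib.Helper5.CS4.Asm
import Cfsg.Agent.Lib.Helper87.CS4.Cop
import Cfsg.Agent.Lib.Helper87.CS4.PP
import Cfsg.Agent.Lib.Helper87.CS4.Prod
import Cfsg.Agent.Lib.Helper60.CS4.SylCentral
import Cfsg.Agent.Lib.Helper60.CS4.Fix
import Cfsg.Agent.Lib.Helper60.CS4.ItoSub
import Cfsg.Agent.Lib.Helper16.CS4.GoodS
import Cfsg.Agent.Lib.Helper97.CS4.Good
import Cfsg.Agent.Lib.Helper45.CS4.NilAsm
import Cfsg.Agent.Lib.Helper45.CS4.Nil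
import Cfsg.Agent.Lib.Helper10.CS4.M
import Cfsg.Agent.Lib.Helper10.CS4.E0
import Cfsg.Agent.Lib.Helper27.CS4.U
import Cfsg.Agent.Lib.Helper27.CS4.NCQ
import Cfsg.Agent.Lib.Helper20.CS4.Dich
import Cfsg.Agent.Lib.Helper20.CS4.Beta
import Cfsg.Agent.Lib.Helper83.CS4.QC
import Cfsg.Agent.Lib.Helper83.CS4.Q
import Cfsg.Agent.Lib.Helper83.CS4.StA
import Cfsg.Agent.Lib.Helper46.CS4.E1
import Cfsg.Agent.Lib.Helper76.CS4.CU
import Cfsg.Agent.Lib.Helper76.CS4.Ncs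
import Cfsg.Agent.Lib.Helper13.CS4.Fin1
import Cfsg.Agent.Lib.Helper13.CS4.Fin2

set_option autoImplicit false

namespace Cfsg.Agent.Lib.Helper5.CS4

universe u

/-- S4146, all packages discharged. -/
theorem s4146_main {G : Type u} [Group G] [Finite G] (n m : ℕ) (hn : 1 < n) (hm : 1 < m)
    (hcop : n.Coprime m)
    (h : Set.range (fun x : G => (Subgroup.centralizer ({x} : Set G)).index) =
      ({1, n, m, n * m} : Set ℕ)) :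
    Group.IsNilpotent G ∧ IsPrimePow n ∧ IsPrimePow m := by
  have hCop : PkgCop.{u} := Cfsg.Agent.Lib.Helper87.CS4.pkgCop
  have hPP : PkgPP.{u} := Cfsg.Agent.Lib.Helper87.CS4.pkgPP
  have hProd : PkgProd.{u} := Cfsg.Agent.Lib.Helper87.CS4.pkgProd
  have hB4 : PkgSylCentral.{u} := Cfsg.Agent.Lib.Helper60.CS4.pkgSylCentral
  have hFix : PkgFix.{u} := Cfsg.Agent.Lib.Helper60.CS4.pkgFix
  have hIto : PkgItoSub.{u} := Cfsg.Agent.Lib.Helper60.CS4.pkgItoSub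
  have hGoodS : PkgGoodS.{u} := Cfsg.Agent.Lib.Helper16.CS4.pkgGoodS hCop
  have hGood : PkgGood.{u} := Cfsg.Agent.Lib.Helper97.CS4.pkgGood hGoodS hIto hPP hProd hFix
  have hNilAsm : PkgNilAsm.{u} := Cfsg.Agent.Lib.Helper45.CS4.pkgNilAsm hB4 hPP
  have hNil : PkgNil.{u} := Cfsg.Agent.Lib.Helper45.CS4.pkgNil hNilAsm
  have hM : PkgM.{u} := Cfsg.Agent.Lib.Helper10.CS4.pkgM
  have hE0 : PkgE0.{u} := Cfsg.Agent.Lib.Helper10.CS4.pkgE0 hCop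
  have hU : PkgU.{u} := Cfsg.Agent.Lib.Helper27.CS4.pkgU hM hB4 hPP
  have hNCQ : PkgNCQ.{u} := Cfsg.Agent.Lib.Helper27.CS4.pkgNCQ
  have hDich : PkgDich.{u} := Cfsg.Agent.Lib.Helper20.CS4.pkgDich hProd
  have hBeta : PkgBeta.{u} := Cfsg.Agent.Lib.Helper20.CS4.pkgBeta hE0 hProd hPP hB4
  have hQC : PkgQC.{u} := Cfsg.Agent.Lib.Helper83.CS4.pkgQC hCop
  have hQ : PkgQ.{u} := Cfsg.Agent.Lib.Helper83.CS4.pkgQ hQC hProd
  have hStA : PkgStA.{u} := Cfsg.Agent.Lib.Helper83.CS4.pkgStA hU hBeta hDich hQ hB4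
  have hE1 : PkgE1.{u} := Cfsg.Agent.Lib.Helper46.CS4.pkgE1 hCop hE0 hNCQ
  have hCU : PkgCU.{u} := Cfsg.Agent.Lib.Helper76.CS4.pkgCU hE0 hQC hFix
  have hNcs : PkgNcs.{u} := Cfsg.Agent.Lib.Helper76.CS4.pkgNcs hCop hFix
  have hF1 : PkgFin1.{u} := Cfsg.Agent.Lib.Helper13.CS4.pkgFin1 hNcs hIto hProd
  have hF2 : PkgFin2.{u} := Cfsg.Agent.Lib.Helper13.CS4.pkgFin2
  exact s4146_of hGood hNil hStA hE1 hCU hF1 hF2 n m hn hm hcop h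

end Cfsg.Agent.Lib.Helper5.CS4
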